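import Groth.Prelude.Def_EtRam
import Mathlib.RingTheory.Valuation.LocalSubring
import Mathlib.RingTheory.Valuation.ValuationSubring
import Mathlib.RingTheory.Flat.FaithfullyFlat.Algebra
import Mathlib.RingTheory.Flat.TorsionFree
import Mathlib.RingTheory.Nilpotent.GeometricallyReduced
import Mathlib.RingTheory.Ideal.MinimalPrime.Localization
import Mathlib.RingTheory.LocalRing.ResidueField.Ideal
import Mathlib.RingTheory.DiscreteValuationRing.Basic
import Mathlib.FieldTheory.IntermediateField.Adjoin.Algebra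
import Mathlib.Tactic

/-!
# Extending a local extension along an extension of discrete valuation rings
-/

set_option autoImplicit false
set_option linter.style.haveILetI false
set_option backward.isDefEq.respectTransparency false
set_option backward.isDefEq.respectTransparency.types false

universe u

open TensorProduct

namespace Groth.Agent.EtRamDown

variable {K₁ M M' : Type u} [Field K₁] [Field M] [Field M']

/-- Weak unramifiedness descends to a subfield. -/
lemma isWeaklyUnramified_comap (W' : ValuationSubring M') (ι : M →+* M') (f : K₁ →+* M)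
    (h : letI : Algebra (W'.comap (ι.comp f)) W' := (EtRam.inclOfComap W' (ι.comp f)).toAlgebra
      EtRam.IsWeaklyUnramified (W'.comap (ι.comp f)) W') :
    letI : Algebra ((W'.comap ι).comap f) (W'.comap ι) := (EtRam.inclOfComap (W'.comap ι) f).toAlgebra
    EtRam.IsWeaklyUnramified ((W'.comap ι).comap f) (W'.comap ι) := by
  letI : Algebra (W'.comap (ι.comp f)) W' := (EtRam.inclOfComap W' (ι.comp f)).toAlgebra
  letI : Algebra ((W'.comap ι).comap f) (W'.comap ι) := (EtRam.inclOfComap (W'.comap ι) f).toAlgebra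
  have h' : (IsLocalRing.maximalIdeal (W'.comap (ι.comp f))).map (EtRam.inclOfComap W' (ι.comp f)) =
      IsLocalRing.maximalIdeal W' := h
  show (IsLocalRing.maximalIdeal ((W'.comap ι).comap f)).map (EtRam.inclOfComap (W'.comap ι) f) =
    IsLocalRing.maximalIdeal (W'.comap ι)
  refine le_antisymm (Ideal.map_le_iff_le_comap.2 fun a ha => ?_) fun x hx => ?_
  · exact fun hu => ha ((isUnit_map_iff (EtRam.inclOfComap (W'.comap ι) f) a).1 hu)
  · by_contra hxJ
    have hxu : ¬ IsUnit (EtRam.inclOfComap W' ι x) := fun hu => hx ((isUnit_map_iff (EtRam.inclOfComap W' ι) x).1 hu)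
    have hle : (IsLocalRing.maximalIdeal (W'.comap (ι.comp f))).map (EtRam.inclOfComap W' (ι.comp f)) ≤
        Ideal.span {EtRam.inclOfComap W' ι x} * IsLocalRing.maximalIdeal W' := by
      rw [Ideal.map_le_iff_le_comap]
      intro a ha
      let a' : (W'.comap ι).comap f := a
      let y : W'.comap ι := EtRam.inclOfComap (W'.comap ι) f a'
      have hy : y ∈ (IsLocalRing.maximalIdeal ((W'.comap ι).comap f)).map (EtRam.inclOfComap (W'.comap ι) f) :=
        Ideal.mem_map_of_mem _ (show a' ∈ IsLocalRing.maximalIdeal _ from ha)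
      rcases ValuationRing.dvd_total x y with ⟨t, ht⟩ | ⟨t, ht⟩
      · have htu : ¬ IsUnit t := by
          rintro ⟨u, rfl⟩
          exact hxJ (by
            rw [show x = ↑u⁻¹ * y by rw [ht, mul_comm x, ← mul_assoc, Units.inv_mul, one_mul]]
            exact Ideal.mul_mem_left _ _ hy)
        have e : EtRam.inclOfComap W' (ι.comp f) a = EtRam.inclOfComap W' ι x * EtRam.inclOfComap W' ι t := by
          rw [← map_mul, ← ht]; rfl
        rw [Ideal.mem_comap, e]
        exact Ideal.mul_mem_mul (Ideal.mem_span_singleton_self _)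
          fun hu => htu ((isUnit_map_iff (EtRam.inclOfComap W' ι) t).1 hu)
      · exact (hxJ (ht ▸ Ideal.mul_mem_right _ _ hy)).elim
    obtain ⟨z, hz, he⟩ := Ideal.mem_span_singleton_mul.1 (hle (h'.symm ▸ (show EtRam.inclOfComap W' ι x ∈ IsLocalRing.maximalIdeal W' from hxu)))
    have hx0 : EtRam.inclOfComap W' ι x ≠ 0 := fun h0 => by
      have : (x : M) = 0 := ι.injective (by rw [map_zero]; exact congrArg Subtype.val h0)
      rw [show x = 0 from Subtype.ext this] at hxJ
      exact hxJ (Ideal.zero_mem _)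
    exact hz ((mul_eq_left₀ hx0).1 he ▸ isUnit_one)

/-- Geometric reducedness of the residue extension descends to a subfield. -/
lemma isGeometricallyReduced_comap (W' : ValuationSubring M') (ι : M →+* M') (f : K₁ →+* M)
    (h : @Algebra.IsGeometricallyReduced (IsLocalRing.ResidueField (W'.comap (ι.comp f))) (IsLocalRing.ResidueField W') _ _
        (IsLocalRing.ResidueField.map (EtRam.inclOfComap W' (ι.comp f))).toAlgebra) :
    @Algebra.IsGeometricallyReduced (IsLocalRing.ResidueField ((W'.comap ι).comap f)) (IsLocalRing.ResidueField (W'.comap ι)) _ _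
        (IsLocalRing.ResidueField.map (EtRam.inclOfComap (W'.comap ι) f)).toAlgebra := by
  letI : Algebra (IsLocalRing.ResidueField ((W'.comap ι).comap f)) (IsLocalRing.ResidueField (W'.comap ι)) :=
    (IsLocalRing.ResidueField.map (EtRam.inclOfComap (W'.comap ι) f)).toAlgebra
  letI : Algebra (IsLocalRing.ResidueField ((W'.comap ι).comap f)) (IsLocalRing.ResidueField W') :=
    (IsLocalRing.ResidueField.map (EtRam.inclOfComap W' (ι.comp f))).toAlgebra
  haveI : Algebra.IsGeometricallyReduced (IsLocalRing.ResidueField ((W'.comap ι).comap f)) (IsLocalRing.ResidueField W') := h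
  let g : IsLocalRing.ResidueField (W'.comap ι) →ₐ[IsLocalRing.ResidueField ((W'.comap ι).comap f)]
      IsLocalRing.ResidueField W' :=
    { IsLocalRing.ResidueField.map (EtRam.inclOfComap W' ι) with
      commutes' := fun r => by
        obtain ⟨r, rfl⟩ := IsLocalRing.residue_surjective r
        rfl }
  exact Algebra.IsGeometricallyReduced.of_injective g (RingHom.injective g.toRingHom)

variable (B C L M₀ : Type u) [CommRing B] [IsDomain B] [IsDiscreteValuationRing B]
  [CommRing C] [IsDomain C] [IsDiscreteValuationRing C] [Algebra B C] [IsLocalHom (algebraMap B C)]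
  [Field L] [Field M₀] [Algebra B L] [IsFractionRing B L] [Algebra C M₀] [IsFractionRing C M₀]
  [Algebra L M₀] [Algebra B M₀] [IsScalarTower B C M₀] [IsScalarTower B L M₀]

/-- A valuation subring over `B` extends compatibly to one over `C`. -/
lemma exists_extension (hinj : Function.Injective (algebraMap B C)) [Algebra L M] (W : ValuationSubring M)
    (hW : EtRam.Dominates B ((algebraMap L M).comp (algebraMap B L)) W) :
    ∃ (E : Type u) (_ : Field E) (j : M₀ →+* E) (i : M →+* E) (W' : ValuationSubring E),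
      (∀ l, i (algebraMap L M l) = j (algebraMap L M₀ l)) ∧ W'.comap i = W ∧
        EtRam.Dominates C (j.comp (algebraMap C M₀)) W' ∧
          ∀ S : Subfield E, (∀ x, i x ∈ S) → (∀ x, j x ∈ S) → ∀ e, e ∈ S := by
  let g : B →+* W := RingHom.codRestrict ((algebraMap L M).comp (algebraMap B L)) W hW.1
  letI : Algebra B W := g.toAlgebra
  have hg : Function.Injective g := fun x y h =>
    IsFractionRing.injective B L ((algebraMap L M).injective (congrArg Subtype.val h))
  haveI : Module.IsTorsionFree B W := Module.isTorsionFree_iff_smul_eq_zero.2 fun r x h => by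
    rw [Algebra.smul_def, mul_eq_zero] at h
    exact h.imp_left fun h => hg (h.trans (map_zero g).symm)
  haveI : Module.IsTorsionFree B C := Module.isTorsionFree_iff_smul_eq_zero.2 fun r x h => by
    rw [Algebra.smul_def, mul_eq_zero] at h
    exact h.imp_left fun h => hinj (h.trans (map_zero _).symm)
  haveI : Module.FaithfullyFlat B C := Module.FaithfullyFlat.of_flat_of_isLocalHom
  let inW : W →ₐ[B] (W ⊗[B] C) := Algebra.TensorProduct.includeLeft
  let inC : C →ₐ[B] (W ⊗[B] C) := Algebra.TensorProduct.includeRight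
  obtain ⟨⟨Q, hQp⟩, hQ⟩ := PrimeSpectrum.comap_surjective_of_faithfullyFlat (A := W) (B := (W ⊗[B] C))
    ⟨IsLocalRing.maximalIdeal W, inferInstance⟩
  replace hQ : Q.comap inW.toRingHom = IsLocalRing.maximalIdeal W := congrArg PrimeSpectrum.asIdeal hQ
  have hQC : Q.comap inC.toRingHom = IsLocalRing.maximalIdeal C := by
    haveI := hQp
    obtain ⟨π, hπ⟩ := IsDiscreteValuationRing.exists_irreducible B
    have hmem : inC (algebraMap B C π) ∈ Q := by
      rw [AlgHom.commutes, ← inW.commutes]
      have hπW : algebraMap B W π ∈ IsLocalRing.maximalIdeal W :=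
        (ValuationSubring.valuation_lt_one_iff W _).2 (hW.2 π hπ.not_isUnit)
      exact (hQ.symm ▸ hπW : algebraMap B W π ∈ Q.comap inW.toRingHom)
    refine IsLocalRing.eq_maximalIdeal (Ideal.IsPrime.isMaximal inferInstance fun h => hπ.ne_zero (hinj ?_))
    have : algebraMap B C π ∈ Q.comap inC.toRingHom := hmem
    rw [h, Ideal.mem_bot] at this
    rw [this, map_zero]
  haveI := hQp
  obtain ⟨P₀, hP₀, hP₀Q⟩ := Ideal.exists_minimalPrimes_le (bot_le : (⊥ : Ideal (W ⊗[B] C)) ≤ Q)
  haveI : P₀.IsPrime := hP₀.1.1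
  have hnzd : ∀ t : (W ⊗[B] C), (∀ z, t * z = 0 → z = 0) → t ∉ P₀ := fun t ht hmem =>
    Set.disjoint_left.1 (Ideal.disjoint_nonZeroDivisors_of_mem_minimalPrimes (p := P₀) hP₀) hmem
      (mem_nonZeroDivisors_iff.2 ⟨ht, fun z hz => ht z (by rwa [mul_comm])⟩)
  have hW0 : ∀ w : W, inW w ∈ P₀ → w = 0 := fun w hw => by
    by_contra hw0
    refine hnzd _ (fun z hz => ?_) hw
    have hinjw := Module.Flat.rTensor_preserves_injective_linearMap (M := C) (LinearMap.mulLeft B w) (mul_right_injective₀ hw0)
    refine hinjw ?_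
    rw [map_zero, ← hz]
    clear hz
    show (LinearMap.mulLeft B w).rTensor C z = (w ⊗ₜ[B] (1 : C)) * z
    induction z with
    | zero => simp
    | add a b ha hb => rw [map_add, mul_add, ha, hb]
    | tmul a c => simp
  have hC0 : ∀ c : C, inC c ∈ P₀ → c = 0 := fun c hc => by
    by_contra hc0
    refine hnzd _ (fun z hz => ?_) hc
    have hinjc := Module.Flat.lTensor_preserves_injective_linearMap (M := W) (LinearMap.mulLeft B c) (mul_right_injective₀ hc0)
    refine hinjc ?_
    rw [map_zero, ← hz]
    clear hz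
    show (LinearMap.mulLeft B c).lTensor W z = ((1 : W) ⊗ₜ[B] c) * z
    induction z with
    | zero => simp
    | add a b ha hb => rw [map_add, mul_add, ha, hb]
    | tmul a c => simp
  let E := P₀.ResidueField
  let q : (W ⊗[B] C) →+* E := algebraMap (W ⊗[B] C) P₀.ResidueField
  have hq0 : ∀ t, q t = 0 → t ∈ P₀ := fun t ht => Ideal.algebraMap_residueField_eq_zero.1 ht
  have hqW : Function.Injective (q.comp inW.toRingHom) := (injective_iff_map_eq_zero _).2 fun w hw => hW0 w (hq0 _ hw)
  have hqC : Function.Injective (q.comp inC.toRingHom) := (injective_iff_map_eq_zero _).2 fun c hc => hC0 c (hq0 _ hc)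
  let i : M →+* E := IsFractionRing.lift (A := W) hqW
  let j : M₀ →+* E := IsFractionRing.lift (A := C) hqC
  have hi : ∀ w : W, i (algebraMap W M w) = q (inW w) := fun w => IsFractionRing.lift_algebraMap hqW w
  have hj : ∀ c, j (algebraMap C M₀ c) = q (inC c) := fun c => IsFractionRing.lift_algebraMap hqC c
  have hij : ∀ l, i (algebraMap L M l) = j (algebraMap L M₀ l) := by
    intro l
    refine RingHom.congr_fun (IsFractionRing.ringHom_ext (A := B) (f1 := i.comp (algebraMap L M)) (f2 := j.comp (algebraMap L M₀)) fun b => ?_) l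
    show i (algebraMap W M (algebraMap B W b)) = j (algebraMap L M₀ (algebraMap B L b))
    rw [← IsScalarTower.algebraMap_apply B L M₀, IsScalarTower.algebraMap_apply B C M₀, hi, hj,
      AlgHom.commutes, AlgHom.commutes]
  let A : Subring E := q.range
  let I : Ideal A := Q.map q.rangeRestrict
  have hI : I ≠ ⊤ := by
    intro htop
    have h1 : (1 : A) ∈ I := htop ▸ Submodule.mem_top
    obtain ⟨t, ht, ht1⟩ := (Ideal.mem_map_iff_of_surjective _ q.rangeRestrict_surjective).1 h1
    have h2 : q (t - 1) = 0 := by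
      rw [map_sub, map_one, sub_eq_zero]; exact congrArg Subtype.val ht1
    exact hQp.ne_top ((Ideal.eq_top_iff_one _).2 (by simpa using Q.sub_mem ht (hP₀Q (hq0 _ h2))))
  obtain ⟨W', hAW', hIW'⟩ := Ideal.image_subset_nonunits_valuationSubring I hI
  have hqmem : ∀ t, q t ∈ W' := fun t => hAW' ⟨t, rfl⟩
  have hqnon : ∀ t ∈ Q, q t ∈ W'.nonunits := fun t ht =>
    hIW' ⟨q.rangeRestrict t, Ideal.mem_map_of_mem _ ht, rfl⟩
  refine ⟨E, inferInstance, j, i, W', hij, ?_, ⟨fun c => ?_, fun c hc => ?_⟩, fun S hS₁ hS₂ e => ?_⟩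
  · ext x
    rw [ValuationSubring.mem_comap]
    refine ⟨fun hx => ?_, fun hx => ?_⟩
    · by_contra hxW
      have hx0 : x ≠ 0 := fun h => hxW (h ▸ W.zero_mem)
      have hxi : x⁻¹ ∈ W := (W.mem_or_inv_mem x).resolve_left hxW
      have hnon : (⟨x⁻¹, hxi⟩ : W) ∈ IsLocalRing.maximalIdeal W := fun hu => by
        obtain ⟨v, hv⟩ := hu.exists_right_inv
        have hv' : x⁻¹ * (v : M) = 1 := congrArg Subtype.val hv
        exact hxW ((inv_mul_eq_one₀ hx0).1 hv' ▸ v.2)
      have hmQ : inW ⟨x⁻¹, hxi⟩ ∈ Q := (hQ.symm ▸ hnon : (⟨x⁻¹, hxi⟩ : W) ∈ Q.comap inW.toRingHom)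
      have h1 := W'.mem_nonunits_iff.1 (hqnon _ hmQ)
      rw [← hi] at h1
      change W'.valuation (i x⁻¹) < 1 at h1
      rw [map_inv₀, map_inv₀, inv_lt_one₀ (zero_lt_iff.2 ((Valuation.ne_zero_iff _).2 ((map_ne_zero i).2 hx0)))] at h1
      exact absurd ((W'.valuation_le_one_iff _).2 hx) (not_le.2 h1)
    · rw [show i x = q (inW ⟨x, hx⟩) from hi ⟨x, hx⟩]
      exact hqmem _
  · exact (hj c).symm ▸ hqmem _
  · show W'.valuation (j (algebraMap C M₀ c)) < 1
    rw [hj]
    exact W'.mem_nonunits_iff.1 (hqnon _ (hQC.symm ▸ hc : c ∈ Q.comap inC.toRingHom))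
  · have hT : ∀ t, q t ∈ S := by
      intro t
      induction t with
      | zero => rw [map_zero]; exact S.zero_mem
      | add a b ha hb => rw [map_add]; exact S.add_mem ha hb
      | tmul w c =>
        rw [show w ⊗ₜ[B] c = inW w * inC c by simp [inW, inC], map_mul, ← hi, ← hj]
        exact S.mul_mem (hS₁ _) (hS₂ _)
    obtain ⟨a, b, -, rfl⟩ := IsFractionRing.div_surjective (A := (W ⊗[B] C) ⧸ P₀) e
    obtain ⟨a, rfl⟩ := Ideal.Quotient.mk_surjective a
    obtain ⟨b, rfl⟩ := Ideal.Quotient.mk_surjective b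
    rw [← Ideal.Quotient.algebraMap_eq, ← IsScalarTower.algebraMap_apply, ← IsScalarTower.algebraMap_apply]
    exact S.div_mem (hT a) (hT b)

/-- The transfer of a property of local extensions from `C` to `B`. -/
theorem forallLocalExt_of (hinj : Function.Injective (algebraMap B C)) (K : Type u) [Field K]
    [Algebra K L] [Algebra K M₀] [IsScalarTower K L M₀] [Algebra K K₁] [FiniteDimensional K K₁]
    (P : ∀ (E : Type u) [Field E], ValuationSubring E → (K₁ →+* E) → Prop)
    (hP : ∀ (E F : Type u) [Field E] [Field F] (W' : ValuationSubring F) (i : E →+* F) (f : K₁ →+* E),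
      P F W' (i.comp f) → P E (W'.comap i) f)
    (h : EtRam.ForallLocalExt C K M₀ K₁ P) : EtRam.ForallLocalExt B K L K₁ P := by
  intro M _ _ _ _ _ _ hgen W hW
  obtain ⟨E, _, j, i, W', hij, hcomap, hdom, hgenE⟩ := exists_extension B C L M₀ hinj W hW
  subst hcomap
  letI : Algebra M₀ E := j.toAlgebra
  letI : Algebra K E := (j.comp (algebraMap K M₀)).toAlgebra
  letI : Algebra K₁ E := (i.comp (algebraMap K₁ M)).toAlgebra
  haveI : IsScalarTower K M₀ E := IsScalarTower.of_algebraMap_eq fun _ => rfl
  haveI : IsScalarTower K K₁ E := IsScalarTower.of_algebraMap_eq fun x => by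
    show j (algebraMap K M₀ x) = i (algebraMap K₁ M (algebraMap K K₁ x))
    rw [← IsScalarTower.algebraMap_apply K K₁ M, IsScalarTower.algebraMap_apply K L M, hij,
      ← IsScalarTower.algebraMap_apply K L M₀]
  have hgen' : Algebra.adjoin M₀ (Set.range (algebraMap K₁ E)) = ⊤ := by
    have halg : ∀ x ∈ Set.range (algebraMap K₁ E), IsAlgebraic M₀ x := by
      rintro _ ⟨x, rfl⟩
      exact ((Algebra.IsAlgebraic.isAlgebraic (R := K) x).algebraMap (A := E)).tower_top M₀
    rw [← IntermediateField.adjoin_toSubalgebra_of_isAlgebraic halg, ← IntermediateField.top_toSubalgebra]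
    congr 1
    set S := IntermediateField.adjoin M₀ (Set.range (algebraMap K₁ E))
    refine eq_top_iff.2 fun e _ => hgenE S.toSubfield (fun x => ?_) (fun x => S.algebraMap_mem x) e
    have hx : x ∈ Algebra.adjoin L (Set.range (algebraMap K₁ M)) := hgen ▸ Algebra.mem_top
    induction hx using Algebra.adjoin_induction with
    | mem y hy => obtain ⟨z, rfl⟩ := hy; exact IntermediateField.subset_adjoin _ _ ⟨z, rfl⟩
    | algebraMap l => rw [hij]; exact S.algebraMap_mem _
    | add a b _ _ ha hb => rw [map_add]; exact add_mem ha hb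
    | mul a b _ _ ha hb => rw [map_mul]; exact mul_mem ha hb
  exact hP M E W' i (algebraMap K₁ M) (h E hgen' W' hdom)

end Groth.Agent.EtRamDown
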